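import Groth.Agent.Lib.RingStage.Algebra
import Groth.Agent.Lib.FlatLimit.Global
import Groth.Agent.Lib.LCI6.Syntomic
import Groth.Agent.Lib.LCI6.LocusBaseChange

/-!
# Syntomic algebras over a colimit are syntomic at a stage
-/

set_option autoImplicit false
universe u v

open scoped TensorProduct

noncomputable section

namespace GrothLib.SyntStage

open GrothLib.RingStage GrothLib.LCI6

attribute [local instance] Algebra.TensorProduct.rightAlgebra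

variable {A₀ : Type u} [CommRing A₀] (B₀ : Type u) [CommRing B₀] [Algebra A₀ B₀]
  (C : Type u) [CommRing C] [Algebra B₀ C]

/-- The squares of changes of stage are cartesian, flatness and regularity of presentations ascend. -/
theorem flat_and_kRegAt_tr {X Y : Type u} [CommRing X] [CommRing Y] [Algebra A₀ X] [Algebra A₀ Y]
    (ψ : X →ₐ[A₀] Y) [Algebra.FinitePresentation B₀ C]
    [Module.Flat (B₀ ⊗[A₀] X) ((B₀ ⊗[A₀] X) ⊗[B₀] C)] :
    Module.Flat (B₀ ⊗[A₀] Y) ((B₀ ⊗[A₀] Y) ⊗[B₀] C) ∧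
      ∀ {n : ℕ} (α : MvPolynomial (Fin n) (B₀ ⊗[A₀] X) →ₐ[B₀ ⊗[A₀] X] (B₀ ⊗[A₀] X) ⊗[B₀] C)
        (_ : Function.Surjective α) (Q : Ideal ((B₀ ⊗[A₀] Y) ⊗[B₀] C)) (_ : Q.IsPrime),
        ∃ β : MvPolynomial (Fin n) (B₀ ⊗[A₀] Y) →ₐ[B₀ ⊗[A₀] Y] (B₀ ⊗[A₀] Y) ⊗[B₀] C,
          Function.Surjective β ∧
            (KRegAt (RingHom.ker α.toRingHom) ((Q.comap (trA B₀ C ψ).toRingHom).comap α.toRingHom) ↔
              KRegAt (RingHom.ker β.toRingHom) (Q.comap β.toRingHom)) := by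
  let R := B₀ ⊗[A₀] X
  let R' := B₀ ⊗[A₀] Y
  let S := R ⊗[B₀] C
  let S' := R' ⊗[B₀] C
  letI : Algebra R R' := (trR B₀ ψ).toRingHom.toAlgebra
  letI : Algebra S S' := (trA B₀ C ψ).toRingHom.toAlgebra
  haveI : IsScalarTower B₀ R R' := IsScalarTower.of_algebraMap_eq fun b =>
    ((trR B₀ ψ).commutes b).symm
  haveI : IsScalarTower R R' S' := inferInstance
  haveI : IsScalarTower R S S' := IsScalarTower.of_algebraMap_eq (R := R) (S := S) (A := S') fun r =>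
    (trA_algebraMap B₀ C ψ r).symm
  haveI : IsScalarTower B₀ R R' := IsScalarTower.of_algebraMap_eq fun b =>
    ((trR B₀ ψ).commutes b).symm
  haveI : IsScalarTower B₀ S S' := IsScalarTower.of_algebraMap_eq fun b =>
    ((trA B₀ C ψ).commutes b).symm
  haveI : IsScalarTower C S S' := IsScalarTower.of_algebraMap_eq fun c =>
    (trA_one_tmul B₀ C ψ c).symm
  haveI : Algebra.IsPushout R R' S S' :=
    (Algebra.IsPushout.comp_iff (R := B₀) (S := R) (R' := C) (S' := S) (T := R') (T' := S')).mp inferInstance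
  haveI : Algebra.IsPushout R S R' S' := Algebra.IsPushout.symm inferInstance
  haveI : Algebra.IsPushout R R R' R' :=
    Algebra.IsPushout.symm ⟨IsBaseChange.linearMap R R'⟩
  refine ⟨Module.Flat.isBaseChange R R' S S'
    ((inferInstance : Algebra.IsPushout R R' S S').out), ?_⟩
  intro n α hα Q hQ
  exact kRegAt_presentation_baseChange (R := R) (A := R) (B := S) (R' := R') (A' := R') (B' := S') α hα Q

variable {ι : Type v} {G : ι → Type u} [∀ i, CommRing (G i)] [∀ i, Algebra A₀ (G i)]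
  {A : Type u} [CommRing A] [Algebra A₀ A] {g : ∀ i, G i →ₐ[A₀] A}

/-- Flatness comes from a stage. -/
theorem exists_stage_flat (St : IsStage A₀ G A g) [Algebra.FinitePresentation B₀ C]
    [Module.Flat (B₀ ⊗[A₀] A) ((B₀ ⊗[A₀] A) ⊗[B₀] C)] :
    ∃ i, Module.Flat (B₀ ⊗[A₀] G i) ((B₀ ⊗[A₀] G i) ⊗[B₀] C) := by
  classical
  letI : ∀ i, Algebra (B₀ ⊗[A₀] G i) (B₀ ⊗[A₀] A) := fun i => (trR B₀ (g i)).toRingHom.toAlgebra
  haveI : ∀ i, IsScalarTower B₀ (B₀ ⊗[A₀] G i) (B₀ ⊗[A₀] A) := fun i =>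
    IsScalarTower.of_algebraMap_eq fun b => ((trR B₀ (g i)).commutes b).symm
  refine GrothLib.FlatLimit.exists_stage_flat (A₀ := B₀) (A := B₀ ⊗[A₀] A) (fun i => B₀ ⊗[A₀] G i)
    (fun i i' => ?_) (fun T => ?_) (fun i p hp => ?_) C C
  · obtain ⟨j, φ, φ', h, h'⟩ := St.dir i i'
    refine ⟨j, trR B₀ φ, trR B₀ φ', fun x => ?_, fun x => ?_⟩
    · show trR B₀ (g j) (trR B₀ φ x) = trR B₀ (g i) x
      rw [trR_trR, h]
    · show trR B₀ (g j) (trR B₀ φ' x) = trR B₀ (g i') x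
      rw [trR_trR, h']
  · obtain ⟨i, r', hr'⟩ := St.liftR B₀ (fun t : (T : Set (B₀ ⊗[A₀] A)) => (t : B₀ ⊗[A₀] A))
    exact ⟨i, fun t ht => ⟨r' ⟨t, ht⟩, hr' ⟨t, ht⟩⟩⟩
  · have key : ∀ (X : Type u) [CommRing X] [Algebra A₀ X] (Y : Type u) [CommRing Y] [Algebra A₀ Y]
        (ψ : X →ₐ[A₀] Y) (x : B₀ ⊗[A₀] X),
        tr B₀ B₀ ψ (x ⊗ₜ 1) = trR B₀ ψ x ⊗ₜ (1 : B₀) := fun X _ _ Y _ _ ψ x => tr_tmul B₀ B₀ ψ x 1
    obtain ⟨j, ψ, hψ, h0⟩ := St.vanish_tr_finite B₀ B₀ i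
      (fun x : (p : Set ((B₀ ⊗[A₀] G i) × (B₀ ⊗[A₀] G i))) => (x.1.1 - x.1.2) ⊗ₜ[B₀] (1 : B₀)) (fun x => by
        have : trR B₀ (g i) x.1.1 = trR B₀ (g i) x.1.2 := hp x.1 x.2
        rw [key, map_sub, this, sub_self, TensorProduct.zero_tmul])
    refine ⟨j, trR B₀ ψ, fun x => ?_, fun x hx => ?_⟩
    · show trR B₀ (g j) (trR B₀ ψ x) = trR B₀ (g i) x
      rw [trR_trR, hψ]
    · have h := congrArg (TensorProduct.rid B₀ (B₀ ⊗[A₀] G j)) (h0 ⟨x, hx⟩)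
      rw [key, TensorProduct.rid_tmul, one_smul, map_zero, map_sub, sub_eq_zero] at h
      exact h

/-- **Syntomic comes from a stage.** -/
theorem exists_stage_isSyntomic (St : IsStage A₀ G A g) [Algebra.FinitePresentation B₀ C]
    (h : Synt.IsSyntomic (B₀ ⊗[A₀] A) ((B₀ ⊗[A₀] A) ⊗[B₀] C)) :
    ∃ i, Synt.IsSyntomic (B₀ ⊗[A₀] G i) ((B₀ ⊗[A₀] G i) ⊗[B₀] C) := by
  classical
  obtain ⟨hflat, hlci⟩ := isSyntomic_iff.mp h
  haveI := hflat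
  obtain ⟨i, hi⟩ := exists_stage_flat B₀ C St
  haveI := hi
  obtain ⟨n, α, hα⟩ := Algebra.FiniteType.iff_quotient_mvPolynomial''.mp
    (inferInstance : Algebra.FiniteType (B₀ ⊗[A₀] G i) ((B₀ ⊗[A₀] G i) ⊗[B₀] C))
  let H : Set (MvPolynomial (Fin n) (B₀ ⊗[A₀] G i)) := {w | ∃ l : List (Localization.Away w),
    LCI.IsKoszulRegularSeq (Localization.Away w) l ∧
      (RingHom.ker α.toRingHom).map (algebraMap _ (Localization.Away w)) = Ideal.ofList l}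
  have htop : Ideal.span ((trA B₀ C (g i)) '' (α '' H)) = ⊤ := by
    by_contra hne
    obtain ⟨M, hM, hle⟩ := Ideal.exists_le_maximal _ hne
    obtain ⟨β, hβ, hiff⟩ := (flat_and_kRegAt_tr B₀ C (g i)).2 α hα M hM.isPrime
    obtain ⟨w, hw, hl⟩ := hiff.mpr
      ((isKoszulRegularIdeal_ker_iff _ hβ).mp (isKoszulRegularIdeal_of_isLCI hlci β hβ) M hM.isPrime)
    exact hw (hle (Ideal.subset_span ⟨α w, ⟨w, hl, rfl⟩, rfl⟩))
  obtain ⟨m, a, v, hsum⟩ := (Submodule.mem_span_set'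
    (s := (trA B₀ C (g i)) '' (α '' H))).mp (htop.symm ▸ Submodule.mem_top : (1 : (B₀ ⊗[A₀] A) ⊗[B₀] C) ∈ _)
  choose b hb hbv using fun k => (v k).2
  obtain ⟨i', a', ha'⟩ := St.lift_tr B₀ C a
  obtain ⟨j₀, φ, φ', hφ, hφ'⟩ := St.dir i i'
  obtain ⟨j, ψ, hψ, h0⟩ := St.vanish_tr B₀ C j₀
    ((∑ k, trA B₀ C φ' (a' k) * trA B₀ C φ (b k)) - 1) (by
      rw [← trA_eq_tr, map_sub, map_one, map_sum, sub_eq_zero]
      refine (Finset.sum_congr rfl fun k _ => ?_).trans hsum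
      rw [map_mul, trA_trA, trA_trA, hφ, hφ', smul_eq_mul, trA_eq_tr, ha' k, hbv k])
  rw [← trA_eq_tr, map_sub, map_one, map_sum, sub_eq_zero] at h0
  obtain ⟨hflatj, hk⟩ := flat_and_kRegAt_tr B₀ C (ψ.comp φ)
  haveI := hflatj
  obtain ⟨n', β', hβ'⟩ := Algebra.FiniteType.iff_quotient_mvPolynomial''.mp
    (inferInstance : Algebra.FiniteType (B₀ ⊗[A₀] G j) ((B₀ ⊗[A₀] G j) ⊗[B₀] C))
  refine ⟨j, isSyntomic_iff.mpr ⟨hflatj, inferInstance, n', β', hβ',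
    (isKoszulRegularIdeal_ker_iff _ hβ').mpr fun Q hQ => ?_⟩⟩
  obtain ⟨β, hβ, hiff⟩ := hk α hα Q hQ
  refine kRegAt_of_presentation β hβ β' hβ' Q (hiff.mp ?_)
  by_contra hnot
  refine hQ.ne_top ((Ideal.eq_top_iff_one _).mpr (h0 ▸ Q.sum_mem fun k _ => ?_))
  rw [map_mul]
  refine Q.mul_mem_left _ ?_
  rw [trA_trA]
  obtain ⟨w, ⟨l, hl⟩, hwb⟩ := hb k
  by_contra hnQ
  refine hnot ⟨w, ?_, l, hl⟩
  rw [← hwb] at hnQ
  exact hnQ

end GrothLib.SyntStage
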